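import Mathlib
import Groth.Agent.Lib.Lead.XS.DualIso
import Groth.Agent.Lib.Lead.XS.LeftHom
import Groth.Agent.Lib.Helper2.HomSh5
import Groth.Agent.H4.LFP1
import Groth.Agent.Lib.Lead.QC.BiprodSec

/-!
# Maps out of `𝓗om(B, A)` into the structure module, for `B` finite locally free
-/

set_option autoImplicit false
set_option linter.style.haveILetI false
universe u
open CategoryTheory CategoryTheory.Limits AlgebraicGeometry TopologicalSpace Opposite

namespace Groth.Agent.H5.ExtG1

open Groth.Agent.H2.HomSh Groth.Agent.LD Groth.Agent.LD.XS Groth.Agent.LD.XS.DI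

attribute [-instance] Groth.Agent.LD.QC.stalkModule

variable {X : Scheme.{u}}

/-- a quasi-coherent module has a sheaf Hom (the explicit one). -/
theorem hasSheafHom_of_qc (F : X.Modules) [F.IsQuasicoherent] : DCoh.HasSheafHom F :=
  ⟨⟨homShF F, ⟨(adjR F).ofNatIsoLeft (ltIso F).symm⟩⟩⟩

/-- `sharpR` of the zero morphism. -/
theorem sharpR_zero (M K Z : X.Modules) :
    sharpR (0 : M ⟶ RefHull.homSh K Z) = 0 := by
  apply QC.hom_ext_tmul
  intro U μ v
  rw [sharpR_app_tmul, QC.zero_app', QC.zero_app', app_zero_hom]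

/-- rank `r` implies finite locally free. -/
theorem isFinLocFree_of_rank' {r : ℕ} {B : X.Modules} (hB : FlatMod.IsFinLocFreeOfRank r B) :
    FlatMod.IsFinLocFree B := fun x => by
  obtain ⟨V, hxV, he⟩ := hB x
  exact ⟨V, r, hxV, he⟩

/-- a finite locally free module is coherent. -/
theorem isCoh_of_rank {r : ℕ} {B : X.Modules} (hB : FlatMod.IsFinLocFreeOfRank r B) :
    Coh.IsCoh B := by
  haveI := QC.isFinitePresentation_of_isFinLocFree B (isFinLocFree_of_rank' hB)
  exact ⟨inferInstance, inferInstance⟩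

/-- **a finite locally free module is reflexive.** -/
theorem isIso_bidualMap [IsLocallyNoetherian X] (r : ℕ) (B : X.Modules)
    (hB : FlatMod.IsFinLocFreeOfRank r B) : IsIso (RefHull.bidualMap B) := by
  refine (isReflexive_iff_stalk (isCoh_of_rank hB)).mpr ?_
  intro x
  obtain ⟨h1, h2, -⟩ := Groth.Agent.H4.LFP1.stalk_of_isFinLocFreeOfRank r B hB x
  unfold RefHull.IsReflexiveAt
  haveI : Module.Free (X.presheaf.stalk x) (B.presheaf.stalk x) := h1
  haveI : Module.Finite (X.presheaf.stalk x) (B.presheaf.stalk x) := h2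
  infer_instance

/-- **maps out of `𝓗om(B, A)` into the structure module vanish as soon as `Hom(A, B) = 0`**,
for `B` finite locally free. -/
theorem hom_homSh_unit_eq_zero [IsLocallyNoetherian X] (r : ℕ) (A B : X.Modules)
    (hB : FlatMod.IsFinLocFreeOfRank r B) (hhom : ∀ f : A ⟶ B, f = 0)
    (φ : RefHull.homSh B A ⟶ QC.unitMod X) : φ = 0 := by
  have hBf := isFinLocFree_of_rank' hB
  haveI : B.IsQuasicoherent := (isCoh_of_rank hB).1
  have hfp := QC.isFinitePresentation_of_isFinLocFree B hBf
  haveI : (QC.unitMod X).IsQuasicoherent := QC.qc_of_isInvertible _ (QC.isInvertible_unit X)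
  haveI : (Dl B).IsQuasicoherent := qc_homSh hfp
  haveI := isIso_theta B A hBf
  let lam : CohB1.tensorMod A (Dl B) ⟶ QC.unitMod X := theta B A ≫ φ
  let ξ : A ⟶ RefHull.homSh (Dl B) (QC.unitMod X) := flatR lam
  haveI := isIso_bidualMap r B hB
  have h1 : ξ ≫ inv (RefHull.bidualMap B) = 0 := hhom _
  have h2 : ξ = 0 := by
    have h := congrArg (fun t => t ≫ RefHull.bidualMap B) h1
    simpa using h
  have h3 : lam = 0 := by
    rw [← sharpR_flatR lam]
    change sharpR ξ = 0
    rw [h2, sharpR_zero]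
  exact (cancel_epi (theta B A)).mp (h3.trans comp_zero.symm)

end Groth.Agent.H5.ExtG1
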