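import Mathlib
import Groth.Agent.Lib.Helper5.ExtG1.A
import Groth.Agent.Lib.Helper5.SD.CurveOmega
import Groth.Agent.Lib.Helper5.SD.CanReg
import Groth.Agent.Lib.Helper5.SD.Genus1Pic
import Groth.Agent.Lib.Lead.EZ.ExtLocFree
import Groth.Agent.Lib.Helper2.EulerHom

/-!
# `Ext¹` vanishing and splitting on curves of genus one
-/

set_option autoImplicit false
set_option linter.style.haveILetI false
universe u
open CategoryTheory CategoryTheory.Limits AlgebraicGeometry TopologicalSpace Opposite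

namespace Groth.Agent.H5.ExtG1

open Groth.Agent.H2.HomSh Groth.Agent.LD Groth.Agent.LD.QC Groth.Agent.LD.XS
  Groth.Agent.LD.XS.DI Groth.Agent.H5.SD

attribute [-instance] Groth.Agent.LD.QC.stalkModule

variable (k : Type u) [Field k] (X : Scheme.{u}) [X.Over (Spec (CommRingCat.of k))]
  [IsProper (X ↘ Spec (CommRingCat.of k))] [IsIntegral X]

/-- **on a regular curve of genus one, `H¹(F) = 0` as soon as `Hom(F, O) = 0`** (the dualizing
module is trivial). -/
theorem subsingleton_H1_of_hom_unit_eq_zero (hdim : topologicalKrullDim X = 1)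
    (hreg : ∀ x : X, IsRegularLocalRing (X.presheaf.stalk x))
    (h0 : Module.finrank k (Coh.HH X (Coh.structureModule X) 0) = 1)
    (hg : Curv2.genus k X = 1) (F : X.Modules) (hF : Coh.IsCoh F)
    (hhom : ∀ φ : F ⟶ unitMod X, φ = 0) : Subsingleton (Coh.HH X F 1) := by
  obtain ⟨ω, t, hωc, hd⟩ := exists_dualizing_curve k X hdim
  have hinv := hd.isInvertible hωc hdim hreg
  have hdeg := hd.deg_eq hinv hdim h0
  have hH0 := hd.finrank_H0
  rw [hg] at hH0 hdeg
  have hnt : Nontrivial (Coh.HH X ω 0) :=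
    Module.nontrivial_of_finrank_pos (R := k) (by rw [hH0]; norm_num)
  obtain ⟨τ, hτ⟩ := Groth.Agent.H5.Curve2.exists_section_ne_zero_of_nontrivial_H0 k X ω hnt
  haveI : IsIso τ := isIso_of_deg_nonpos k X hdim.le hinv τ hτ (by rw [hdeg]; norm_num)
  by_contra hns
  rw [not_subsingleton_iff_nontrivial] at hns
  obtain ⟨φ, hφ⟩ := hd.exists_ne_zero F hF hns
  apply hφ
  have h1 := hhom (φ ≫ inv τ)
  have h2 := congrArg (fun s => s ≫ τ) h1
  simpa using h2

/-- `H¹(𝓗om(B, A)) = 0` on a genus one curve when `Hom(A, B) = 0`. -/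
theorem subsingleton_H1_homSh (hdim : topologicalKrullDim X = 1)
    (hreg : ∀ x : X, IsRegularLocalRing (X.presheaf.stalk x))
    (h0 : Module.finrank k (Coh.HH X (Coh.structureModule X) 0) = 1)
    (hg : Curv2.genus k X = 1) (a b : ℕ) (A B : X.Modules)
    (hA : FlatMod.IsFinLocFreeOfRank a A) (hB : FlatMod.IsFinLocFreeOfRank b B)
    (hhom : ∀ f : A ⟶ B, f = 0) : Subsingleton (Coh.HH X (RefHull.homSh B A) 1) := by
  haveI := Curve.isLocallyNoetherian k X
  have hc : Coh.IsCoh (RefHull.homSh B A) := isCoh_homSh (isCoh_of_rank hB) (isCoh_of_rank hA)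
  exact subsingleton_H1_of_hom_unit_eq_zero k X hdim hreg h0 hg _ hc
    (fun φ => hom_homSh_unit_eq_zero b A B hB hhom φ)

/-- **`Ext¹(B, A) = 0`** on a genus one curve when `Hom(A, B) = 0`. -/
theorem subsingleton_ext_one [HasExt.{u} X.Modules] (hdim : topologicalKrullDim X = 1)
    (hreg : ∀ x : X, IsRegularLocalRing (X.presheaf.stalk x))
    (h0 : Module.finrank k (Coh.HH X (Coh.structureModule X) 0) = 1)
    (hg : Curv2.genus k X = 1) (a b : ℕ) (A B : X.Modules)
    (hA : FlatMod.IsFinLocFreeOfRank a A) (hB : FlatMod.IsFinLocFreeOfRank b B)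
    (hhom : ∀ f : A ⟶ B, f = 0) : Subsingleton (Abelian.Ext B A 1) := by
  haveI : B.IsQuasicoherent := (isCoh_of_rank hB).1
  haveI : DCoh.HasSheafHom B := hasSheafHom_of_qc B
  obtain ⟨e⟩ := Groth.Agent.LD.EZ.nonempty_ext_addEquiv_HH_sheafHom B A
    (isFinLocFree_of_rank' hB) 1
  let e' := Groth.Agent.LD.EZ.HHaddEquivOfIso ((dcohHomIso B).app A) 1
  have hs : Subsingleton (Coh.HH X ((homShF B).obj A) 1) :=
    subsingleton_H1_homSh k X hdim hreg h0 hg a b A B hA hB hhom
  exact @Function.Injective.subsingleton _ _ (e.trans e') (e.trans e').injective hs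

/-- **splitting** of short exact sequences of vector bundles `0 → A → E → B → 0` on a genus one
curve when `Hom(A, B) = 0`. -/
theorem isSplitEpi_of_hom_eq_zero (hdim : topologicalKrullDim X = 1)
    (hreg : ∀ x : X, IsRegularLocalRing (X.presheaf.stalk x))
    (h0 : Module.finrank k (Coh.HH X (Coh.structureModule X) 0) = 1)
    (hg : Curv2.genus k X = 1) (T : ShortComplex X.Modules) (hT : T.ShortExact) (a b : ℕ)
    (hA : FlatMod.IsFinLocFreeOfRank a T.X₁) (hB : FlatMod.IsFinLocFreeOfRank b T.X₃)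
    (hhom : ∀ f : T.X₁ ⟶ T.X₃, f = 0) : IsSplitEpi T.g := by
  haveI := Groth.Agent.H1.sheafOfModules_isGrothendieckAbelian
    (Opens.grothendieckTopology X) X.ringCatSheaf
  haveI : EnoughInjectives X.Modules :=
    inferInstanceAs (EnoughInjectives (SheafOfModules.{u} X.ringCatSheaf))
  haveI : HasExt.{u} X.Modules := hasExt_of_enoughInjectives.{u} _
  haveI := subsingleton_ext_one k X hdim hreg h0 hg a b T.X₁ T.X₃ hA hB hhom
  obtain ⟨ρ, hρ⟩ := Groth.Agent.H2.Euler.exists_extension_of_subsingleton_ext hT T.X₁ (𝟙 T.X₁)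
  haveI := hT.epi_g
  let σ := ShortComplex.Splitting.ofExactOfRetraction T hT.exact ρ hρ inferInstance
  exact IsSplitEpi.mk' ⟨σ.s, σ.s_g⟩

end Groth.Agent.H5.ExtG1
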