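import Mathlib
import Groth.Agent.Lib.Helper5.ExtG1.B
import Groth.Agent.Lib.Helper5.Curve4.HN2
import Groth.Agent.Lib.Helper5.Curve4.VB5
import Groth.Agent.Lib.Helper5.Eig.Genus1b
import Groth.Agent.Lib.Lead.Curve.RankAdd

/-!
# Indecomposable bundles on genus one curves are semistable
-/

set_option autoImplicit false
set_option linter.style.haveILetI false
universe u
open CategoryTheory CategoryTheory.Limits AlgebraicGeometry TopologicalSpace Opposite

namespace Groth.Agent.H5.ExtG1

open Groth.Agent.LD Groth.Agent.LD.QC Groth.Agent.H5.Curve4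

variable (k : Type u) [Field k] (X : Scheme.{u}) [X.Over (Spec (CommRingCat.of k))]
  [IsProper (X ↘ Spec (CommRingCat.of k))] [Smooth (X ↘ Spec (CommRingCat.of k))] [IsIntegral X]

/-- **an indecomposable vector bundle on a curve of genus one is semistable.** -/
theorem semistable_of_indecomposable (hdim : topologicalKrullDim X = 1)
    (h0 : Module.finrank k (Coh.HH X (Coh.structureModule X) 0) = 1)
    (hg : Curv2.genus k X = 1) (r : ℕ) (hr : 0 < r) (E : X.Modules)
    (hE : FlatMod.IsFinLocFreeOfRank r E)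
    (hind : ∀ (E₁ E₂ : X.Modules), Nonempty (E ≅ E₁ ⊞ E₂) → IsZero E₁ ∨ IsZero E₂) :
    ∀ (G : X.Modules) (r' : ℕ) (i : G ⟶ E), Mono i → 0 < r' → FlatMod.IsFinLocFreeOfRank r' G →
      Curv2.deg k X G r' * (r : ℤ) ≤ Curv2.deg k X E r * (r' : ℤ) := by
  have hreg : ∀ x : X, IsRegularLocalRing (X.presheaf.stalk x) :=
    fun x => regular_stalks k X x
  obtain ⟨⟨E₁, r₁, i₁, hi₁, hr₁, hE₁, hmax, hq⟩, -⟩ := maxDestab k X hdim.le r hr E hE
  haveI := hi₁
  obtain ⟨s, hC⟩ := cokernel_locFree_of_maxSl k X hdim.le hE hr₁ i₁ hE₁ hmax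
  let T : ShortComplex X.Modules := ShortComplex.mk i₁ (cokernel.π i₁) (cokernel.condition i₁)
  have hT : T.ShortExact :=
    { exact := ShortComplex.exact_cokernel i₁
      mono_f := inferInstanceAs (Mono i₁)
      epi_g := inferInstanceAs (Epi (cokernel.π i₁)) }
  have hhom : ∀ f : T.X₁ ⟶ T.X₃, f = 0 := by
    intro f
    refine hom_eq_zero_of_slope k X hdim.le r₁ s hE₁ hC ?_ hq f
    intro G r' j hj hr' hG
    haveI := hj
    exact hmax G r' (j ≫ i₁) inferInstance hr' hG
  have hsplit : IsSplitEpi (cokernel.π i₁) :=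
    isSplitEpi_of_hom_eq_zero k X hdim hreg h0 hg T hT r₁ s hE₁ hC hhom
  have hiso := Groth.Agent.H5.Eig.nonempty_iso_biprod_of_isSplitEpi i₁ hsplit
  have hz : IsZero (cokernel i₁) := by
    rcases hind E₁ (cokernel i₁) hiso with h | h
    · exact absurd h (not_isZero_of_rank_pos X hr₁ hE₁)
    · exact h
  have hs0 : s = 0 := by
    by_contra hne
    exact not_isZero_of_rank_pos X (Nat.pos_of_ne_zero hne) hC hz
  subst hs0
  have hrk := Groth.Agent.LD.Curve.rank_add_of_shortExact T hT r₁ r 0 hE₁ hE hC (genericPoint X)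
  have hdeg := Groth.Agent.LD.Curve.deg_add_of_shortExact k X T hT r₁ r 0 hE₁ hE hC
  rw [deg_rank_zero k X hC] at hdeg
  have hrr : r = r₁ := by omega
  subst hrr
  intro G r' i hi hr' hG
  have h1 := hmax G r' i hi hr' hG
  have hdeg' : Curv2.deg k X E r = Curv2.deg k X E₁ r := by
    change Curv2.deg k X E r = Curv2.deg k X E₁ r + 0 at hdeg
    rw [hdeg, add_zero]
  rw [hdeg']
  exact h1

end Groth.Agent.H5.ExtG1
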