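import Mathlib
import Groth.Agent.Lib.Helper5.ExtG1.B
import Groth.Agent.Lib.Lead.HF.Killed
import Groth.Agent.Lib.Lead.XS.HomTwist
import Groth.Agent.Lib.Helper5.Curve4.VB2
import Groth.Agent.Lib.Helper5.DegC.TensorDeg

/-!
# Ranks of sheaf Homs and Riemann–Roch for `Hom` on genus one curves
-/

set_option autoImplicit false
set_option linter.style.haveILetI false
universe u
open CategoryTheory CategoryTheory.Limits AlgebraicGeometry TopologicalSpace Opposite

namespace Groth.Agent.H5.ExtG1

open Groth.Agent.H2.HomSh Groth.Agent.LD Groth.Agent.LD.QC Groth.Agent.LD.XS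
  Groth.Agent.LD.XS.DI Groth.Agent.H5.SD

attribute [-instance] Groth.Agent.LD.QC.stalkModule

section rank

variable {X : Scheme.{u}}

/-- **the sheaf Hom of vector bundles of ranks `b`, `a` has rank `b * a`.** -/
theorem isFinLocFreeOfRank_homSh [IsIntegral X] [IsLocallyNoetherian X] (a b : ℕ)
    (A B : X.Modules) (hA : FlatMod.IsFinLocFreeOfRank a A)
    (hB : FlatMod.IsFinLocFreeOfRank b B) :
    FlatMod.IsFinLocFreeOfRank (b * a) (RefHull.homSh B A) := by
  have hf := Groth.Agent.LD.HF.isFinLocFree_homSh B A (isFinLocFree_of_rank' hB)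
    (isFinLocFree_of_rank' hA)
  obtain ⟨r, hr⟩ := Groth.Agent.H5.Curve4.exists_rank hf
  obtain ⟨-, -, rk⟩ := Groth.Agent.H4.LFP1.stalk_of_isFinLocFreeOfRank r _ hr (genericPoint X)
  obtain ⟨fA, finA, rkA⟩ := Groth.Agent.H4.LFP1.stalk_of_isFinLocFreeOfRank a A hA (genericPoint X)
  obtain ⟨fB, finB, rkB⟩ := Groth.Agent.H4.LFP1.stalk_of_isFinLocFreeOfRank b B hB (genericPoint X)
  haveI : Module.Free (X.presheaf.stalk (genericPoint X)) (A.presheaf.stalk (genericPoint X)) := fA
  haveI : Module.Finite (X.presheaf.stalk (genericPoint X)) (A.presheaf.stalk (genericPoint X)) :=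
    finA
  haveI : Module.Free (X.presheaf.stalk (genericPoint X)) (B.presheaf.stalk (genericPoint X)) := fB
  haveI : Module.Finite (X.presheaf.stalk (genericPoint X)) (B.presheaf.stalk (genericPoint X)) :=
    finB
  have hb := evalStalk_bijective (F := B) (G := A)
    (QC.isFinitePresentation_of_isFinLocFree B (isFinLocFree_of_rank' hB)) (genericPoint X)
  have h1 := (LinearEquiv.ofBijective (RefHull.evalStalk B A (genericPoint X)) hb).finrank_eq
  have h2 : Module.finrank (X.presheaf.stalk (genericPoint X))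
      (RefHull.StalkHom B A (genericPoint X)) = b * a := by
    have := Module.finrank_linearMap (X.presheaf.stalk (genericPoint X))
      (X.presheaf.stalk (genericPoint X)) (B.presheaf.stalk (genericPoint X))
      (A.presheaf.stalk (genericPoint X))
    have rkA' : Module.finrank (X.presheaf.stalk (genericPoint X))
        (A.presheaf.stalk (genericPoint X)) = a := rkA
    have rkB' : Module.finrank (X.presheaf.stalk (genericPoint X))
        (B.presheaf.stalk (genericPoint X)) = b := rkB
    rw [rkA', rkB'] at this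
    exact this
  have rk' : Module.finrank (X.presheaf.stalk (genericPoint X))
      ((RefHull.homSh B A).presheaf.stalk (genericPoint X)) = r := rk
  have h3 : r = b * a := by
    rw [← rk', ← h2]
    exact h1
  rw [← h3]
  exact hr

end rank

variable (k : Type u) [Field k] (X : Scheme.{u}) [X.Over (Spec (CommRingCat.of k))]
  [IsProper (X ↘ Spec (CommRingCat.of k))] [IsIntegral X]

/-- **duality on a genus one curve**: `h¹(F) = dim Hom(F, O)`. -/
theorem finrank_H1_eq_finrank_hom_unit (hdim : topologicalKrullDim X = 1)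
    (hreg : ∀ x : X, IsRegularLocalRing (X.presheaf.stalk x))
    (h0 : Module.finrank k (Coh.HH X (Coh.structureModule X) 0) = 1)
    (hg : Curv2.genus k X = 1) (F : X.Modules) (hF : Coh.IsCoh F) :
    Module.finrank k (Coh.HH X F 1) = Module.finrank k (F ⟶ unitMod X) := by
  obtain ⟨ω, t, hωc, hd⟩ := exists_dualizing_curve k X hdim
  have hinv := hd.isInvertible hωc hdim hreg
  have hdeg := hd.deg_eq hinv hdim h0
  have hH0 := hd.finrank_H0
  rw [hg] at hH0 hdeg
  have hnt : Nontrivial (Coh.HH X ω 0) :=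
    Module.nontrivial_of_finrank_pos (R := k) (by rw [hH0]; norm_num)
  obtain ⟨τ, hτ⟩ := Groth.Agent.H5.Curve2.exists_section_ne_zero_of_nontrivial_H0 k X ω hnt
  haveI : IsIso τ := isIso_of_deg_nonpos k X hdim.le hinv τ hτ (by rw [hdeg]; norm_num)
  haveI : Module.Finite k (Coh.HH X F 1) := Curve.finite_HH k X _ hF 1
  have e1 := (Linear.homCongr k (Iso.refl F) (asIso τ)).finrank_eq
  have e2 := (hd.equiv F hF).finrank_eq
  rw [Subspace.dual_finrank_eq] at e2
  rw [← e2, ← e1]

/-- `χ(O) = 0` in genus one. -/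
theorem euler_unit_eq_zero (hdim : topologicalKrullDim X = 1)
    (h0 : Module.finrank k (Coh.HH X (Coh.structureModule X) 0) = 1)
    (hg : Curv2.genus k X = 1) : Curv2.euler k X (unitMod X) = 0 := by
  haveI : (unitMod X).IsQuasicoherent := qc_of_isInvertible _ (isInvertible_unit X)
  have h3 := Curve.euler_eq_sub k X hdim.le (unitMod X)
  have hO : Module.finrank k (Coh.HH X (unitMod X) 0) = 1 := h0
  have hg' : Module.finrank k (Coh.HH X (unitMod X) 1) = 1 := hg
  rw [hO, hg'] at h3
  rw [h3]
  norm_num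

/-- **`χ(B^∨) = -χ(B)`** for a vector bundle on a genus one curve. -/
theorem euler_Dl (hdim : topologicalKrullDim X = 1)
    (hreg : ∀ x : X, IsRegularLocalRing (X.presheaf.stalk x))
    (h0 : Module.finrank k (Coh.HH X (Coh.structureModule X) 0) = 1)
    (hg : Curv2.genus k X = 1) (b : ℕ) (B : X.Modules) (hB : FlatMod.IsFinLocFreeOfRank b B) :
    Curv2.euler k X (Dl B) = - Curv2.euler k X B := by
  haveI := Curve.isLocallyNoetherian k X
  have hOc : Coh.IsCoh (unitMod X) :=
    Groth.Agent.H5.Curve2.isCoh_of_isInvertible (isInvertible_unit X)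
  have hBc := isCoh_of_rank hB
  have hDc : Coh.IsCoh (Dl B) := isCoh_homSh hBc hOc
  haveI := hBc.1
  haveI := hDc.1
  have e1 := Curve.euler_eq_sub k X hdim.le (Dl B)
  have e2 := Curve.euler_eq_sub k X hdim.le B
  have a1 : Module.finrank k (Coh.HH X (Dl B) 0) = Module.finrank k (Coh.HH X B 1) := by
    rw [finrank_H1_eq_finrank_hom_unit k X hdim hreg h0 hg B hBc]
    exact (homHH k B (unitMod X)).finrank_eq.symm
  have a2 : Module.finrank k (Coh.HH X (Dl B) 1) = Module.finrank k (Coh.HH X B 0) := by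
    rw [finrank_H1_eq_finrank_hom_unit k X hdim hreg h0 hg (Dl B) hDc,
      (homHH k (Dl B) (unitMod X)).finrank_eq]
    haveI := isIso_bidualMap b B hB
    exact (Groth.Agent.H5.Curve2.finrank_HH_iso k X (asIso (RefHull.bidualMap B)) 0).symm
  rw [e1, e2, a1, a2]
  ring

/-- **Riemann–Roch for `Hom`** between vector bundles on a genus one curve. -/
theorem finrank_hom_sub (hdim : topologicalKrullDim X = 1)
    (hreg : ∀ x : X, IsRegularLocalRing (X.presheaf.stalk x))
    (h0 : Module.finrank k (Coh.HH X (Coh.structureModule X) 0) = 1)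
    (hg : Curv2.genus k X = 1) (a b : ℕ) (A B : X.Modules)
    (hA : FlatMod.IsFinLocFreeOfRank a A) (hB : FlatMod.IsFinLocFreeOfRank b B) :
    (Module.finrank k (B ⟶ A) : ℤ) - Module.finrank k (Coh.HH X (RefHull.homSh B A) 1) =
      b * Curv2.deg k X A a - a * Curv2.deg k X B b := by
  haveI := Curve.isLocallyNoetherian k X
  have hAc := isCoh_of_rank hA
  have hBc := isCoh_of_rank hB
  haveI := hBc.1
  have hHc : Coh.IsCoh (RefHull.homSh B A) := isCoh_homSh hBc hAc
  haveI := hHc.1
  have e0 := Curve.euler_eq_sub k X hdim.le (RefHull.homSh B A)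
  have e1 : Module.finrank k (B ⟶ A) = Module.finrank k (Coh.HH X (RefHull.homSh B A) 0) :=
    (homHH k B A).finrank_eq
  haveI := isIso_theta B A (isFinLocFree_of_rank' hB)
  have e2 := Curve.euler_iso k X (asIso (theta B A))
  have hO : FlatMod.IsFinLocFreeOfRank 1 (unitMod X) :=
    (isInvertible_iff _).mp (isInvertible_unit X)
  have hDl : FlatMod.IsFinLocFreeOfRank b (Dl B) := by
    have := isFinLocFreeOfRank_homSh 1 b (unitMod X) B hO hB
    simpa using this
  have e3 := Groth.Agent.H5.DegC.deg_tensorMod k hdim.le a b A (Dl B) hA hDl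
  have e4 := euler_unit_eq_zero k X hdim h0 hg
  have e5 := euler_Dl k X hdim hreg h0 hg b B hB
  unfold Curv2.deg at e3 ⊢
  change Curv2.euler k X (unitMod X) = 0 at e4
  have e4' : Curv2.euler k X (Coh.structureModule X) = 0 := e4
  rw [e4'] at e3 ⊢
  rw [e5] at e3
  rw [e1, ← e0, ← e2]
  simp only [mul_zero, sub_zero] at e3 ⊢
  rw [e3]
  push_cast
  ring

end Groth.Agent.H5.ExtG1
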