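import Mathlib

/-!
# Non-split extensions from non-vanishing `Ext¹`
-/

set_option autoImplicit false
universe w v u
open CategoryTheory CategoryTheory.Limits Abelian

namespace Groth.Agent.H5.ExtG1

variable {C : Type u} [Category.{v} C] [Abelian C]

/-- **pullback of a short exact sequence** along a morphism into its cokernel. -/
theorem exists_pullback_shortExact {S : ShortComplex C} (hS : S.ShortExact) {B : C}
    (q : B ⟶ S.X₃) :
    ∃ (P : C) (f' : S.X₁ ⟶ P) (g' : P ⟶ B) (a : P ⟶ S.X₂) (w : f' ≫ g' = 0),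
      (ShortComplex.mk f' g' w).ShortExact ∧ f' ≫ a = S.f ∧ a ≫ S.g = g' ≫ q := by
  haveI := hS.mono_f
  haveI := hS.epi_g
  have hw : S.f ≫ S.g = (0 : S.X₁ ⟶ B) ≫ q := by rw [S.zero, zero_comp]
  let f' : S.X₁ ⟶ pullback S.g q := pullback.lift S.f 0 hw
  have h1 : f' ≫ pullback.fst S.g q = S.f := pullback.lift_fst _ _ _
  have h2 : f' ≫ pullback.snd S.g q = 0 := pullback.lift_snd _ _ _
  refine ⟨pullback S.g q, f', pullback.snd S.g q, pullback.fst S.g q, h2, ?_, h1,
    pullback.condition⟩
  haveI : Mono f' := by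
    have : Mono (f' ≫ pullback.fst S.g q) := by rw [h1]; infer_instance
    exact mono_of_mono f' (pullback.fst S.g q)
  haveI : Epi (pullback.snd S.g q) := Abelian.epi_pullback_of_epi_f S.g q
  refine { exact := ?_, mono_f := ‹Mono f'›, epi_g := ‹Epi (pullback.snd S.g q)› }
  apply ShortComplex.exact_of_f_is_kernel
  refine KernelFork.IsLimit.ofι _ _ (fun {Z} h hh => ?_) (fun {Z} h hh => ?_)
    (fun {Z} h hh m hm => ?_)
  · have h3 : (h ≫ pullback.fst S.g q) ≫ S.g = 0 := by
      rw [Category.assoc, pullback.condition, ← Category.assoc, hh, zero_comp]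
    exact hS.exact.lift (h ≫ pullback.fst S.g q) h3
  · have h3 : (h ≫ pullback.fst S.g q) ≫ S.g = 0 := by
      rw [Category.assoc, pullback.condition, ← Category.assoc, hh, zero_comp]
    apply pullback.hom_ext
    · rw [Category.assoc, h1]
      exact hS.exact.lift_f _ h3
    · rw [Category.assoc, h2, comp_zero, hh]
  · rw [← cancel_mono f']
    have h3 : (h ≫ pullback.fst S.g q) ≫ S.g = 0 := by
      rw [Category.assoc, pullback.condition, ← Category.assoc, hh, zero_comp]
    rw [hm]
    apply pullback.hom_ext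
    · rw [Category.assoc, h1]
      exact (hS.exact.lift_f _ h3).symm
    · rw [Category.assoc, h2, comp_zero, hh]

/-- **if every extension of `B` by `A` splits then `Ext¹(B, A) = 0`.** -/
theorem subsingleton_ext_one_of_forall_split [HasExt.{w} C] [EnoughInjectives C] (A B : C)
    (h : ∀ (E : C) (f : A ⟶ E) (g : E ⟶ B) (w : f ≫ g = 0),
      (ShortComplex.mk f g w).ShortExact → ∃ s : B ⟶ E, s ≫ g = 𝟙 B) :
    Subsingleton (Ext.{w} B A 1) := by
  refine subsingleton_of_forall_eq 0 (fun x => ?_)
  let ι : A ⟶ Injective.under A := Injective.ι A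
  let S : ShortComplex C := ShortComplex.mk ι (cokernel.π ι) (cokernel.condition ι)
  have hS : S.ShortExact :=
    { exact := ShortComplex.exact_cokernel ι
      mono_f := inferInstanceAs (Mono ι)
      epi_g := inferInstanceAs (Epi (cokernel.π ι)) }
  haveI : Injective S.X₂ := inferInstanceAs (Injective (Injective.under A))
  obtain ⟨x₃, hx₃⟩ := Ext.covariant_sequence_exact₁ B hS x (Ext.eq_zero_of_injective _)
    (n₀ := 0) rfl
  obtain ⟨q, rfl⟩ := Ext.addEquiv₀.symm.surjective x₃
  obtain ⟨P, f', g', a, w, hP, hfa, hag⟩ := exists_pullback_shortExact hS q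
  obtain ⟨s, hs⟩ := h P f' g' w hP
  have hq : q = (s ≫ a) ≫ S.g := by
    rw [Category.assoc, hag, ← Category.assoc, hs, Category.id_comp]
  rw [← hx₃]
  change (Ext.mk₀ q).comp hS.extClass _ = 0
  rw [hq, ← Ext.mk₀_comp_mk₀, Ext.comp_assoc_of_second_deg_zero, hS.comp_extClass, Ext.comp_zero]

end Groth.Agent.H5.ExtG1
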