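import Mathlib
import Groth.Agent.Lib.Helper5.ExtG1.D
import Groth.Agent.Lib.Helper5.ExtG1.E

/-!
# Non-split extensions of vector bundles on genus one curves
-/

set_option autoImplicit false
set_option linter.style.haveILetI false
universe u
open CategoryTheory CategoryTheory.Limits AlgebraicGeometry TopologicalSpace Opposite

namespace Groth.Agent.H5.ExtG1

open Groth.Agent.H2.HomSh Groth.Agent.LD Groth.Agent.LD.QC Groth.Agent.LD.XS
  Groth.Agent.LD.XS.DI Groth.Agent.H5.SD

attribute [-instance] Groth.Agent.LD.QC.stalkModule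

section general

variable {X : Scheme.{u}}

/-- a nonzero map `A ⟶ B` gives a nonzero map `𝓗om(B, A) ⟶ O`, for `B` finite locally free. -/
theorem exists_hom_homSh_unit_ne_zero [IsLocallyNoetherian X] (r : ℕ) (A B : X.Modules)
    (hB : FlatMod.IsFinLocFreeOfRank r B) (f : A ⟶ B) (hf : f ≠ 0) :
    ∃ φ : RefHull.homSh B A ⟶ QC.unitMod X, φ ≠ 0 := by
  have hBf := isFinLocFree_of_rank' hB
  haveI : B.IsQuasicoherent := (isCoh_of_rank hB).1
  have hfp := QC.isFinitePresentation_of_isFinLocFree B hBf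
  haveI : (QC.unitMod X).IsQuasicoherent := QC.qc_of_isInvertible _ (QC.isInvertible_unit X)
  haveI : (Dl B).IsQuasicoherent := qc_homSh hfp
  haveI := isIso_theta B A hBf
  haveI := isIso_bidualMap r B hB
  let ξ : A ⟶ RefHull.homSh (Dl B) (QC.unitMod X) := f ≫ RefHull.bidualMap B
  refine ⟨inv (theta B A) ≫ sharpR ξ, fun h0 => hf ?_⟩
  have h1 : sharpR ξ = 0 := by
    have := congrArg (fun t => theta B A ≫ t) h0
    simpa using this
  have h2 : ξ = 0 := sharpR_injective ξ 0 (h1.trans (sharpR_zero _ _ _).symm)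
  have h3 := congrArg (fun t => t ≫ inv (RefHull.bidualMap B)) h2
  simpa [ξ] using h3

end general

variable (k : Type u) [Field k] (X : Scheme.{u}) [X.Over (Spec (CommRingCat.of k))]
  [IsProper (X ↘ Spec (CommRingCat.of k))] [IsIntegral X]

/-- on a genus one curve, `H¹(F) = 0` forces `Hom(F, O) = 0`. -/
theorem hom_unit_eq_zero_of_subsingleton_H1 (hdim : topologicalKrullDim X = 1)
    (hreg : ∀ x : X, IsRegularLocalRing (X.presheaf.stalk x))
    (h0 : Module.finrank k (Coh.HH X (Coh.structureModule X) 0) = 1)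
    (hg : Curv2.genus k X = 1) (F : X.Modules) (hF : Coh.IsCoh F)
    (hs : Subsingleton (Coh.HH X F 1)) (φ : F ⟶ unitMod X) : φ = 0 := by
  obtain ⟨ω, t, hωc, hd⟩ := exists_dualizing_curve k X hdim
  have hinv := hd.isInvertible hωc hdim hreg
  have hdeg := hd.deg_eq hinv hdim h0
  have hH0 := hd.finrank_H0
  rw [hg] at hH0 hdeg
  have hnt : Nontrivial (Coh.HH X ω 0) :=
    Module.nontrivial_of_finrank_pos (R := k) (by rw [hH0]; norm_num)
  obtain ⟨τ, hτ⟩ := Groth.Agent.H5.Curve2.exists_section_ne_zero_of_nontrivial_H0 k X ω hnt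
  haveI : IsIso τ := isIso_of_deg_nonpos k X hdim.le hinv τ hτ (by rw [hdeg]; norm_num)
  have h1 := hd.eq_zero F hF hs (φ ≫ τ)
  have h2 := congrArg (fun s => s ≫ inv τ) h1
  simpa using h2

/-- **a nonzero map `A ⟶ B` of vector bundles on a genus one curve gives a non-split extension
of `B` by `A`.** -/
theorem exists_nonsplit_extension (hdim : topologicalKrullDim X = 1)
    (hreg : ∀ x : X, IsRegularLocalRing (X.presheaf.stalk x))
    (h0 : Module.finrank k (Coh.HH X (Coh.structureModule X) 0) = 1)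
    (hg : Curv2.genus k X = 1) (a b : ℕ) (A B : X.Modules)
    (hA : FlatMod.IsFinLocFreeOfRank a A) (hB : FlatMod.IsFinLocFreeOfRank b B)
    (f : A ⟶ B) (hf : f ≠ 0) :
    ∃ (E : X.Modules) (i : A ⟶ E) (p : E ⟶ B) (w : i ≫ p = 0),
      (ShortComplex.mk i p w).ShortExact ∧ ∀ s : B ⟶ E, s ≫ p ≠ 𝟙 B := by
  by_contra hcon
  push Not at hcon
  haveI := Curve.isLocallyNoetherian k X
  haveI := Groth.Agent.H1.sheafOfModules_isGrothendieckAbelian
    (Opens.grothendieckTopology X) X.ringCatSheaf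
  haveI : EnoughInjectives X.Modules :=
    inferInstanceAs (EnoughInjectives (SheafOfModules.{u} X.ringCatSheaf))
  haveI : HasExt.{u} X.Modules := hasExt_of_enoughInjectives.{u} _
  have hext : Subsingleton (Abelian.Ext.{u} B A 1) :=
    subsingleton_ext_one_of_forall_split A B hcon
  haveI : B.IsQuasicoherent := (isCoh_of_rank hB).1
  haveI : DCoh.HasSheafHom B := hasSheafHom_of_qc B
  obtain ⟨e⟩ := Groth.Agent.LD.EZ.nonempty_ext_addEquiv_HH_sheafHom B A
    (isFinLocFree_of_rank' hB) 1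
  let e' := Groth.Agent.LD.EZ.HHaddEquivOfIso ((dcohHomIso B).app A) 1
  have hs : Subsingleton (Coh.HH X (RefHull.homSh B A) 1) :=
    @Function.Injective.subsingleton _ _ (e.trans e').symm (e.trans e').symm.injective hext
  have hc : Coh.IsCoh (RefHull.homSh B A) := isCoh_homSh (isCoh_of_rank hB) (isCoh_of_rank hA)
  obtain ⟨φ, hφ⟩ := exists_hom_homSh_unit_ne_zero b A B hB f hf
  exact hφ (hom_unit_eq_zero_of_subsingleton_H1 k X hdim hreg h0 hg _ hc hs φ)

end Groth.Agent.H5.ExtG1
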