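import Mathlib

/-!
# The endomorphism algebra shrinks under non-split extensions
-/

set_option autoImplicit false
universe w v u
open CategoryTheory CategoryTheory.Limits

namespace Groth.Agent.H5.ExtG1

section linalg

variable {k U V W : Type*} [Field k] [AddCommGroup U] [Module k U] [AddCommGroup V] [Module k V]
  [AddCommGroup W] [Module k W] [Module.Finite k U] [Module.Finite k V] [Module.Finite k W]

/-- dimension bound from a (half-)exact sequence `U → V → W`. -/
theorem finrank_le_add_of_ker_le_range (S : U →ₗ[k] V) (T : V →ₗ[k] W)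
    (h : LinearMap.ker T ≤ LinearMap.range S) :
    Module.finrank k V ≤ Module.finrank k U + Module.finrank k W := by
  have h1 := LinearMap.finrank_range_add_finrank_ker T
  have h2 : Module.finrank k (LinearMap.ker T) ≤ Module.finrank k (LinearMap.range S) :=
    Submodule.finrank_mono h
  have h3 := LinearMap.finrank_range_le S
  have h4 : Module.finrank k (LinearMap.range T) ≤ Module.finrank k W := Submodule.finrank_le _
  omega

/-- an injective, non-surjective linear map strictly raises the dimension. -/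
theorem finrank_lt_of_injective_of_not_mem (S : U →ₗ[k] V) (hS : Function.Injective S) (v : V)
    (hv : v ∉ LinearMap.range S) : Module.finrank k U + 1 ≤ Module.finrank k V := by
  have h1 := LinearMap.finrank_range_of_inj hS
  have h2 : LinearMap.range S < ⊤ := lt_top_iff_ne_top.mpr (fun h => hv (h ▸ Submodule.mem_top))
  have h3 := Submodule.finrank_lt_finrank_of_lt h2
  rw [finrank_top] at h3
  omega

end linalg

variable {C : Type u} [Category.{v} C] [Abelian C] (k : Type w) [Field k] [Linear k C]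

/-- **the endomorphism algebra of a non-split extension `0 → E₂ → E' → E₁ → 0` with
`Hom(E₁, E₂) = 0` is smaller than that of `E₁ ⊕ E₂`.** -/
theorem finrank_end_lt {E₁ E₂ E' : C} (i : E₂ ⟶ E') (p : E' ⟶ E₁) (w : i ≫ p = 0)
    (hS : (ShortComplex.mk i p w).ShortExact) (hns : ∀ s : E₁ ⟶ E', s ≫ p ≠ 𝟙 E₁)
    (hhom : ∀ f : E₁ ⟶ E₂, f = 0)
    [Module.Finite k (E' ⟶ E')] [Module.Finite k (E₁ ⟶ E')] [Module.Finite k (E₂ ⟶ E')]
    [Module.Finite k (E₁ ⟶ E₁)] [Module.Finite k (E₂ ⟶ E₂)] [Module.Finite k (E₂ ⟶ E₁)]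
    [Module.Finite k (E₁ ⊞ E₂ ⟶ E₁ ⊞ E₂)] :
    Module.finrank k (E' ⟶ E') < Module.finrank k (E₁ ⊞ E₂ ⟶ E₁ ⊞ E₂) := by
  haveI : Mono i := hS.mono_f
  haveI : Epi p := hS.epi_g
  -- (1)
  have b1 : Module.finrank k (E' ⟶ E') ≤
      Module.finrank k (E₁ ⟶ E') + Module.finrank k (E₂ ⟶ E') := by
    refine finrank_le_add_of_ker_le_range (Linear.leftComp k E' p) (Linear.leftComp k E' i) ?_
    intro g hg
    have hg' : i ≫ g = 0 := hg
    exact ⟨hS.exact.desc g hg', hS.exact.g_desc g hg'⟩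
  -- (2)
  have b2 : Module.finrank k (E₂ ⟶ E') ≤
      Module.finrank k (E₂ ⟶ E₂) + Module.finrank k (E₂ ⟶ E₁) := by
    refine finrank_le_add_of_ker_le_range (Linear.rightComp k E₂ i) (Linear.rightComp k E₂ p) ?_
    intro h hh
    have hh' : h ≫ p = 0 := hh
    exact ⟨hS.exact.lift h hh', hS.exact.lift_f h hh'⟩
  -- (3)
  have b3 : Module.finrank k (E₁ ⟶ E') + 1 ≤ Module.finrank k (E₁ ⟶ E₁) := by
    refine finrank_lt_of_injective_of_not_mem (Linear.rightComp k E₁ p) ?_ (𝟙 E₁) ?_
    · rw [← LinearMap.ker_eq_bot, LinearMap.ker_eq_bot']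
      intro s hs
      have hs' : s ≫ p = 0 := hs
      have h1 := hS.exact.lift_f s hs'
      rw [hhom (hS.exact.lift s hs')] at h1
      rw [← h1]
      exact zero_comp
    · rintro ⟨s, hs⟩
      exact hns s hs
  -- (4)
  let Φ : ((E₁ ⟶ E₁) × (E₂ ⟶ E₂) × (E₂ ⟶ E₁)) →ₗ[k] (E₁ ⊞ E₂ ⟶ E₁ ⊞ E₂) :=
    { toFun := fun t => biprod.fst ≫ t.1 ≫ biprod.inl + biprod.snd ≫ t.2.1 ≫ biprod.inr +
        biprod.snd ≫ t.2.2 ≫ biprod.inl
      map_add' := fun s t => by
        simp only [Prod.fst_add, Prod.snd_add, Preadditive.add_comp, Preadditive.comp_add]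
        abel
      map_smul' := fun c t => by
        simp only [Prod.smul_fst, Prod.smul_snd, Linear.smul_comp, Linear.comp_smul, smul_add,
          RingHom.id_apply] }
  have hΦ : Function.Injective Φ := by
    rw [← LinearMap.ker_eq_bot, LinearMap.ker_eq_bot']
    rintro ⟨x, y, z⟩ ht
    have ht' : biprod.fst ≫ x ≫ biprod.inl + biprod.snd ≫ y ≫ biprod.inr +
        biprod.snd ≫ z ≫ biprod.inl = (0 : E₁ ⊞ E₂ ⟶ E₁ ⊞ E₂) := ht
    have hx := congrArg (fun t => biprod.inl ≫ t ≫ biprod.fst) ht'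
    have hy := congrArg (fun t => biprod.inr ≫ t ≫ biprod.snd) ht'
    have hz := congrArg (fun t => biprod.inr ≫ t ≫ biprod.fst) ht'
    simp at hx hy hz
    rw [hx, hy, hz]
    rfl
  have b4 := LinearMap.finrank_le_finrank_of_injective hΦ
  rw [Module.finrank_prod, Module.finrank_prod] at b4
  omega

end Groth.Agent.H5.ExtG1
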