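import Mathlib
import Groth.Agent.Lib.Helper5.ExtG1.C
import Groth.Agent.Lib.Helper5.ExtG1.F
import Groth.Agent.Lib.Helper5.ExtG1.G
import Groth.Agent.Lib.Helper5.HP.HP14
import Groth.Agent.Lib.Helper5.Curve6.Ext3

/-!
# Existence of semistable bundles of every rank and degree on genus one curves
-/

set_option autoImplicit false
set_option linter.style.haveILetI false
universe u
open CategoryTheory CategoryTheory.Limits AlgebraicGeometry TopologicalSpace Opposite

namespace Groth.Agent.H5.ExtG1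

open Groth.Agent.H2.HomSh Groth.Agent.LD Groth.Agent.LD.QC Groth.Agent.LD.XS
  Groth.Agent.LD.XS.DI Groth.Agent.H5.SD Groth.Agent.H5.Curve4

attribute [-instance] Groth.Agent.LD.QC.stalkModule

/-- the middle term of a short exact sequence with free ends is free. -/
lemma free_of_exact {R : Type*} [CommRing R] {M₁ M₂ M₃ : Type*}
    [AddCommGroup M₁] [AddCommGroup M₂] [AddCommGroup M₃] [Module R M₁] [Module R M₂] [Module R M₃]
    [Module.Free R M₁] [Module.Free R M₃]
    (f : M₁ →ₗ[R] M₂) (g : M₂ →ₗ[R] M₃) (hf : Function.Injective f) (hg : Function.Surjective g)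
    (hfg : ∀ y, g y = 0 → ∃ x, f x = y) (hgf : ∀ x, g (f x) = 0) : Module.Free R M₂ := by
  obtain ⟨s, hs⟩ := g.exists_rightInverse_of_surjective (LinearMap.range_eq_top.2 hg)
  have hs' : ∀ z, g (s z) = z := fun z => LinearMap.congr_fun hs z
  have hbij : Function.Bijective (f.coprod s) := by
    constructor
    · rw [injective_iff_map_eq_zero]
      rintro ⟨x, z⟩ h
      rw [LinearMap.coprod_apply] at h
      have hz : z = 0 := by
        have := congrArg g h
        rw [map_add, hgf, hs', zero_add, map_zero] at this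
        exact this
      subst hz
      rw [map_zero, add_zero] at h
      have hx : x = 0 := hf (h.trans (map_zero f).symm)
      subst hx
      rfl
    · intro y
      obtain ⟨x, hx⟩ := hfg (y - s (g y)) (by rw [map_sub, hs', sub_self])
      refine ⟨(x, g y), ?_⟩
      rw [LinearMap.coprod_apply, hx]
      abel
  exact Module.Free.of_equiv (LinearEquiv.ofBijective (f.coprod s) hbij)

section ext

variable {X : Scheme.{u}}

/-- **an extension of vector bundles is a vector bundle.** -/
theorem isFinLocFreeOfRank_of_shortExact [IsIntegral X] [IsLocallyNoetherian X]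
    (S : ShortComplex X.Modules) (hS : S.ShortExact) (a b : ℕ)
    (h₁ : FlatMod.IsFinLocFreeOfRank a S.X₁) (h₃ : FlatMod.IsFinLocFreeOfRank b S.X₃) :
    FlatMod.IsFinLocFreeOfRank (a + b) S.X₂ := by
  have hc := Groth.Agent.H5.HP.isCoh_of_shortExact S hS (isCoh_of_rank h₁) (isCoh_of_rank h₃)
  have hfp := QC.isFinitePresentation_of_qc_ft S.X₂ hc.1 hc.2
  have hfree : ∀ x : X, Module.Free (X.presheaf.stalk x) (S.X₂.presheaf.stalk x) := by
    intro x
    let Φ := DerSch.stalkFunctor X x
    obtain ⟨f1, -, -⟩ := Groth.Agent.H4.LFP1.stalk_of_isFinLocFreeOfRank a S.X₁ h₁ x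
    obtain ⟨f3, -, -⟩ := Groth.Agent.H4.LFP1.stalk_of_isFinLocFreeOfRank b S.X₃ h₃ x
    have hS' : (S.map Φ).ShortExact := hS.map_of_exact Φ
    have hinj : Function.Injective (Φ.map S.f).hom :=
      (ModuleCat.mono_iff_injective _).mp hS'.mono_f
    have hsurj : Function.Surjective (Φ.map S.g).hom :=
      (ModuleCat.epi_iff_surjective _).mp hS'.epi_g
    have hex := (ShortComplex.ShortExact.moduleCat_exact_iff_function_exact _).mp hS'.exact
    haveI : Module.Free (X.presheaf.stalk x) (Φ.obj S.X₁) := f1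
    haveI : Module.Free (X.presheaf.stalk x) (Φ.obj S.X₃) := f3
    exact free_of_exact (Φ.map S.f).hom (Φ.map S.g).hom hinj hsurj
      (fun y hy => (hex y).mp hy) (fun z => (hex _).mpr ⟨z, rfl⟩)
  have hlf := QC.isFinLocFree_of_free_stalks S.X₂ hfp hfree
  obtain ⟨r, hr⟩ := exists_rank hlf
  have := Groth.Agent.LD.Curve.rank_add_of_shortExact S hS a r b h₁ hr h₃ (genericPoint X)
  rw [← this]
  exact hr

end ext

variable (k : Type u) [Field k] (X : Scheme.{u}) [X.Over (Spec (CommRingCat.of k))]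
  [IsProper (X ↘ Spec (CommRingCat.of k))] [Smooth (X ↘ Spec (CommRingCat.of k))] [IsIntegral X]

omit [Smooth (X ↘ Spec (CommRingCat.of k))] in
/-- morphisms between coherent modules on a proper curve form a finite-dimensional space. -/
theorem finite_hom (E F : X.Modules) (hE : Coh.IsCoh E) (hF : Coh.IsCoh F) :
    Module.Finite k (E ⟶ F) := by
  haveI := Curve.isLocallyNoetherian k X
  haveI : Module.Finite k (Coh.HH X (RefHull.homSh E F) 0) :=
    Curve.finite_HH k X _ (isCoh_homSh hE hF) 0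
  exact Module.Finite.equiv (homHH k E F).symm

/-- vector bundles of every rank and degree. -/
theorem exists_bundle [IsAlgClosed k] (hdim : topologicalKrullDim X = 1) (r : ℕ) (hr : 0 < r)
    (d : ℤ) : ∃ F : X.Modules, FlatMod.IsFinLocFreeOfRank r F ∧ Curv2.deg k X F r = d := by
  haveI := Curve.isLocallyNoetherian k X
  have hreg : ∀ x : X, IsRegularLocalRing (X.presheaf.stalk x) :=
    fun x => regular_stalks k X x
  induction r, hr using Nat.le_induction with
  | base =>
    obtain ⟨N, hN, hd⟩ := Groth.Agent.H5.Curve6.exists_invertible_deg k X hdim hreg d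
    exact ⟨N, (isInvertible_iff N).mp hN, hd⟩
  | succ n hn ih =>
    obtain ⟨F, hF, hd⟩ := ih
    have hO : FlatMod.IsFinLocFreeOfRank 1 (unitMod X) :=
      (isInvertible_iff _).mp (isInvertible_unit X)
    let S : ShortComplex X.Modules :=
      ShortComplex.mk (biprod.inl : F ⟶ F ⊞ unitMod X) (biprod.snd : F ⊞ unitMod X ⟶ unitMod X)
        (by simp)
    have hS : S.ShortExact := (ShortComplex.Splitting.ofHasBinaryBiproduct F (unitMod X)).shortExact
    have h2 : FlatMod.IsFinLocFreeOfRank (n + 1) S.X₂ :=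
      isFinLocFreeOfRank_of_shortExact S hS n 1 hF hO
    refine ⟨F ⊞ unitMod X, h2, ?_⟩
    have h3 := Groth.Agent.LD.Curve.deg_add_of_shortExact k X S hS n (n + 1) 1 hF h2 hO
    have h4 : Curv2.deg k X (unitMod X) 1 = 0 := Curve.deg_structureModule k X
    change Curv2.deg k X (F ⊞ unitMod X) (n + 1) = Curv2.deg k X F n + Curv2.deg k X (unitMod X) 1
      at h3
    rw [h3, h4, hd, add_zero]

/-- **semistable bundles of every rank and degree exist on a genus one curve** (over an
algebraically closed field): a bundle with the smallest endomorphism algebra is semistable. -/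
theorem exists_semistable [IsAlgClosed k] (hdim : topologicalKrullDim X = 1)
    (h0 : Module.finrank k (Coh.HH X (Coh.structureModule X) 0) = 1)
    (hg : Curv2.genus k X = 1) (r : ℕ) (hr : 0 < r) (d : ℤ) :
    ∃ F : X.Modules, FlatMod.IsFinLocFreeOfRank r F ∧ Curv2.deg k X F r = d ∧
      ∀ (G : X.Modules) (r' : ℕ) (i : G ⟶ F), Mono i → 0 < r' →
        FlatMod.IsFinLocFreeOfRank r' G →
        Curv2.deg k X G r' * (r : ℤ) ≤ Curv2.deg k X F r * (r' : ℤ) := by
  classical
  haveI := Curve.isLocallyNoetherian k X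
  have hreg : ∀ x : X, IsRegularLocalRing (X.presheaf.stalk x) :=
    fun x => regular_stalks k X x
  let P : ℕ → Prop := fun n => ∃ F : X.Modules, FlatMod.IsFinLocFreeOfRank r F ∧
    Curv2.deg k X F r = d ∧ Module.finrank k (F ⟶ F) = n
  have hP : ∃ n, P n := by
    obtain ⟨F, hF, hd⟩ := exists_bundle k X hdim r hr d
    exact ⟨_, F, hF, hd, rfl⟩
  obtain ⟨F, hF, hd, hn⟩ := Nat.find_spec hP
  refine ⟨F, hF, hd, ?_⟩
  by_contra hss
  obtain ⟨⟨E₁, r₁, i₁, hi₁, hr₁, hE₁, hmax, hq⟩, -⟩ := maxDestab k X hdim.le r hr F hF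
  haveI := hi₁
  obtain ⟨s, hC⟩ := cokernel_locFree_of_maxSl k X hdim.le hF hr₁ i₁ hE₁ hmax
  let T : ShortComplex X.Modules := ShortComplex.mk i₁ (cokernel.π i₁) (cokernel.condition i₁)
  have hT : T.ShortExact :=
    { exact := ShortComplex.exact_cokernel i₁
      mono_f := inferInstanceAs (Mono i₁)
      epi_g := inferInstanceAs (Epi (cokernel.π i₁)) }
  have hrk : r = r₁ + s :=
    Groth.Agent.LD.Curve.rank_add_of_shortExact T hT r₁ r s hE₁ hF hC (genericPoint X)
  have hdeg : Curv2.deg k X F r = Curv2.deg k X E₁ r₁ + Curv2.deg k X (cokernel i₁) s :=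
    Groth.Agent.LD.Curve.deg_add_of_shortExact k X T hT r₁ r s hE₁ hF hC
  have hhom : ∀ f : E₁ ⟶ cokernel i₁, f = 0 := by
    intro f
    refine hom_eq_zero_of_slope k X hdim.le r₁ s hE₁ hC ?_ hq f
    intro G r' j hj hr' hG
    haveI := hj
    exact hmax G r' (j ≫ i₁) inferInstance hr' hG
  rcases Nat.eq_zero_or_pos s with hs0 | hspos
  · subst hs0
    apply hss
    rw [deg_rank_zero k X hC, add_zero] at hdeg
    have hrr : r = r₁ := by omega
    subst hrr
    intro G r' i hi hr' hG
    rw [hdeg]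
    exact hmax G r' i hi hr' hG
  · have hsplit : IsSplitEpi (cokernel.π i₁) :=
      isSplitEpi_of_hom_eq_zero k X hdim hreg h0 hg T hT r₁ s hE₁ hC hhom
    obtain ⟨e⟩ := Groth.Agent.H5.Eig.nonempty_iso_biprod_of_isSplitEpi i₁ hsplit
    have hμ := hq (cokernel i₁) s (𝟙 _) inferInstance hspos hC
    have hRR := finrank_hom_sub k X hdim hreg h0 hg r₁ s E₁ (cokernel i₁) hE₁ hC
    haveI hH1 := subsingleton_H1_homSh k X hdim hreg h0 hg r₁ s E₁ (cokernel i₁) hE₁ hC hhom
    have hz : Module.finrank k (Coh.HH X (RefHull.homSh (cokernel i₁) E₁) 1) = 0 :=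
      Module.finrank_zero_of_subsingleton
    have hpos : 0 < Module.finrank k (cokernel i₁ ⟶ E₁) := by
      rw [hz] at hRR
      have : (0 : ℤ) < (Module.finrank k (cokernel i₁ ⟶ E₁) : ℤ) := by
        push_cast at hRR
        linarith
      exact_mod_cast this
    obtain ⟨f, hf⟩ : ∃ f : cokernel i₁ ⟶ E₁, f ≠ 0 := by
      haveI := Module.nontrivial_of_finrank_pos hpos
      exact exists_ne 0
    obtain ⟨E', i, p, w, hS, hns⟩ := exists_nonsplit_extension k X hdim hreg h0 hg s r₁
      (cokernel i₁) E₁ hC hE₁ f hf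
    have hE' : FlatMod.IsFinLocFreeOfRank (s + r₁) E' :=
      isFinLocFreeOfRank_of_shortExact (ShortComplex.mk i p w) hS s r₁ hC hE₁
    have hE'r : FlatMod.IsFinLocFreeOfRank r E' := by
      rw [hrk, add_comm]
      exact hE'
    have hdeg' : Curv2.deg k X E' r = Curv2.deg k X (cokernel i₁) s + Curv2.deg k X E₁ r₁ :=
      Groth.Agent.LD.Curve.deg_add_of_shortExact k X (ShortComplex.mk i p w) hS s r r₁ hC hE'r hE₁
    have hdE' : Curv2.deg k X E' r = d := by
      rw [hdeg', ← hd, hdeg, add_comm]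
    have cE' := isCoh_of_rank hE'r
    have cE₁ := isCoh_of_rank hE₁
    have cC := isCoh_of_rank hC
    have cF := isCoh_of_rank hF
    have cB : Coh.IsCoh (E₁ ⊞ cokernel i₁) := QC.isCoh_of_iso e cF
    haveI := finite_hom k X E' E' cE' cE'
    haveI := finite_hom k X E₁ E' cE₁ cE'
    haveI := finite_hom k X (cokernel i₁) E' cC cE'
    haveI := finite_hom k X E₁ E₁ cE₁ cE₁
    haveI := finite_hom k X (cokernel i₁) (cokernel i₁) cC cC
    haveI := finite_hom k X (cokernel i₁) E₁ cC cE₁
    haveI := finite_hom k X (E₁ ⊞ cokernel i₁) (E₁ ⊞ cokernel i₁) cB cB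
    have hlt := finrank_end_lt k i p w hS hns hhom
    have heq : Module.finrank k (F ⟶ F) =
        Module.finrank k (E₁ ⊞ cokernel i₁ ⟶ E₁ ⊞ cokernel i₁) :=
      (Linear.homCongr k e e).finrank_eq
    refine Nat.find_min hP (m := Module.finrank k (E' ⟶ E')) ?_ ⟨E', hE'r, hdE', rfl⟩
    rw [← hn, heq]
    exact hlt

end Groth.Agent.H5.ExtG1
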