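import Mathlib
import Groth.Agent.Lib.Helper5.ExtG1.H
import Groth.Agent.Lib.Lead.Curve.InvMono

/-!
# Embedding bundles of small slope into direct sums of a line bundle (genus one)
-/

set_option autoImplicit false
set_option linter.style.haveILetI false
universe u
open CategoryTheory CategoryTheory.Limits AlgebraicGeometry TopologicalSpace Opposite

namespace Groth.Agent.H5.ExtG1

open Groth.Agent.H2.HomSh Groth.Agent.LD Groth.Agent.LD.QC Groth.Agent.LD.XS
  Groth.Agent.LD.XS.DI Groth.Agent.H5.SD Groth.Agent.H5.Curve4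

attribute [-instance] Groth.Agent.LD.QC.stalkModule

variable (k : Type u) [Field k] (X : Scheme.{u}) [X.Over (Spec (CommRingCat.of k))]
  [IsProper (X ↘ Spec (CommRingCat.of k))] [Smooth (X ↘ Spec (CommRingCat.of k))] [IsIntegral X]

/-- **bundles all of whose subbundles have slope `< deg L - 1` admit a jointly injective family
of maps to `L`** (genus one; `L'` is an auxiliary invertible module of degree `deg L - 1`). -/
theorem exists_jointly_mono (hdim : topologicalKrullDim X = 1)
    (h0 : Module.finrank k (Coh.HH X (Coh.structureModule X) 0) = 1)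
    (hg : Curv2.genus k X = 1) (L L' : X.Modules) (hL : PicF.IsInvertible L)
    (hL' : PicF.IsInvertible L') (hdeg : Curv2.deg k X L' 1 = Curv2.deg k X L 1 - 1) :
    ∀ (r : ℕ) (F : X.Modules), FlatMod.IsFinLocFreeOfRank r F →
      (∀ (G : X.Modules) (r' : ℕ) (i : G ⟶ F), Mono i → 0 < r' →
        FlatMod.IsFinLocFreeOfRank r' G →
        Curv2.deg k X G r' < (Curv2.deg k X L 1 - 1) * (r' : ℤ)) →
      ∃ (M : ℕ) (κ : Fin M → (F ⟶ L)), ∀ (Z : X.Modules) (z : Z ⟶ F),
        (∀ i, z ≫ κ i = 0) → z = 0 := by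
  haveI := Curve.isLocallyNoetherian k X
  have hreg : ∀ x : X, IsRegularLocalRing (X.presheaf.stalk x) :=
    fun x => regular_stalks k X x
  haveI := Groth.Agent.H1.sheafOfModules_isGrothendieckAbelian
    (Opens.grothendieckTopology X) X.ringCatSheaf
  haveI : EnoughInjectives X.Modules :=
    inferInstanceAs (EnoughInjectives (SheafOfModules.{u} X.ringCatSheaf))
  haveI : HasExt.{u} X.Modules := hasExt_of_enoughInjectives.{u} _
  have hL1 : FlatMod.IsFinLocFreeOfRank 1 L := (isInvertible_iff L).mp hL
  have hL'1 : FlatMod.IsFinLocFreeOfRank 1 L' := (isInvertible_iff L').mp hL'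
  -- the inclusion `L' → L`
  obtain ⟨ι, hι⟩ : ∃ ι : L' ⟶ L, ι ≠ 0 := by
    have hRR := finrank_hom_sub k X hdim hreg h0 hg 1 1 L L' hL1 hL'1
    have hpos : 0 < Module.finrank k (L' ⟶ L) := by
      have : (0 : ℤ) < (Module.finrank k (L' ⟶ L) : ℤ) := by
        have hnn : (0 : ℤ) ≤ (Module.finrank k (Coh.HH X (RefHull.homSh L' L) 1) : ℤ) :=
          Int.natCast_nonneg _
        push_cast at hRR
        linarith
      exact_mod_cast this
    haveI := Module.nontrivial_of_finrank_pos hpos
    exact exists_ne 0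
  haveI : Mono ι := Curve.mono_of_ne_zero hL' hL ι hι
  intro r
  induction r using Nat.strong_induction_on with
  | _ r ih =>
    intro F hF hsub
    rcases Nat.eq_zero_or_pos r with hr0 | hrpos
    · subst hr0
      exact ⟨0, Fin.elim0, fun Z z _ => (isZero_of_rank_zero hF).eq_of_tgt z 0⟩
    · -- a nonzero map to `L'`
      have hFd := hsub F r (𝟙 F) inferInstance hrpos hF
      obtain ⟨φ', hφ'⟩ : ∃ φ' : F ⟶ L', φ' ≠ 0 := by
        have hRR := finrank_hom_sub k X hdim hreg h0 hg 1 r L' F hL'1 hF
        have hpos : 0 < Module.finrank k (F ⟶ L') := by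
          have : (0 : ℤ) < (Module.finrank k (F ⟶ L') : ℤ) := by
            have hnn : (0 : ℤ) ≤ (Module.finrank k (Coh.HH X (RefHull.homSh F L') 1) : ℤ) :=
              Int.natCast_nonneg _
            rw [hdeg] at hRR
            push_cast at hRR
            nlinarith
          exact_mod_cast this
        haveI := Module.nontrivial_of_finrank_pos hpos
        exact exists_ne 0
      obtain ⟨a, b, hab, hKa, hIb, -⟩ := kernel_image_facts k X hdim.le r 1 hF hL'1 φ'
      have hbpos := rank_coimage_pos X hφ' b hIb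
      have hlt : a < r := by omega
      obtain ⟨M₁, κ, hκ⟩ := ih a hlt (kernel φ') hKa (by
        intro G r' i hi hr' hG
        haveI := hi
        exact hsub G r' (i ≫ kernel.ι φ') inferInstance hr' hG)
      -- extension of the `κ i`
      let S : ShortComplex X.Modules :=
        ShortComplex.mk (kernel.ι φ') (cokernel.π (kernel.ι φ')) (cokernel.condition _)
      have hS : S.ShortExact :=
        { exact := ShortComplex.exact_cokernel (kernel.ι φ')
          mono_f := inferInstanceAs (Mono (kernel.ι φ'))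
          epi_g := inferInstanceAs (Epi (cokernel.π (kernel.ι φ'))) }
      have hhom : ∀ f : L ⟶ Abelian.coimage φ', f = 0 := by
        intro f
        by_contra hf
        have h1 : f ≫ Abelian.factorThruCoimage φ' ≠ 0 := by
          intro h
          apply hf
          rw [← cancel_mono (Abelian.factorThruCoimage φ'), h, zero_comp]
        have h2 := (Curve.deg_le_of_ne_zero k X hdim.le hL hL' _ h1).1
        rw [hdeg] at h2
        omega
      haveI : Subsingleton (Abelian.Ext S.X₃ L 1) :=
        subsingleton_ext_one k X hdim hreg h0 hg 1 b L (Abelian.coimage φ') hL1 hIb hhom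
      have hext : ∀ i : Fin M₁, ∃ κ' : F ⟶ L, kernel.ι φ' ≫ κ' = κ i := fun i =>
        Groth.Agent.H2.Euler.exists_extension_of_subsingleton_ext hS L (κ i)
      choose κ' hκ' using hext
      refine ⟨M₁ + 1, Fin.cons (φ' ≫ ι) κ', ?_⟩
      intro Z z hz
      have h1 : z ≫ φ' = 0 := by
        have := hz 0
        rw [Fin.cons_zero, ← Category.assoc] at this
        rw [← cancel_mono ι, this, zero_comp]
      have h2 : kernel.lift φ' z h1 = 0 := by
        apply hκ
        intro i
        have := hz i.succ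
        rw [Fin.cons_succ] at this
        rw [← hκ' i, ← Category.assoc, kernel.lift_ι, this]
      rw [← kernel.lift_ι φ' z h1, h2, zero_comp]

omit [IsProper (X ↘ Spec (CommRingCat.of k))] [Smooth (X ↘ Spec (CommRingCat.of k))]
  [IsIntegral X] [X.Over (Spec (CommRingCat.of k))] in
/-- a jointly injective family gives a monomorphism into a coproduct. -/
theorem exists_mono_sigma_of_jointly_mono {F L : X.Modules} {M : ℕ} (κ : Fin M → (F ⟶ L))
    (hκ : ∀ (Z : X.Modules) (z : Z ⟶ F), (∀ i, z ≫ κ i = 0) → z = 0) :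
    ∃ j : F ⟶ ∐ fun _ : Fin M => L, Mono j := by
  haveI : Mono (biproduct.lift κ) := by
    apply Preadditive.mono_of_cancel_zero
    intro Z z hz
    apply hκ
    intro i
    have := congrArg (fun t => t ≫ biproduct.π (fun _ : Fin M => L) i) hz
    simpa using this
  exact ⟨biproduct.lift κ ≫ (biproduct.isoCoproduct (fun _ : Fin M => L)).hom, inferInstance⟩

/-- **S18775** (over any field, given an invertible module of degree one). -/
theorem exists_mono_sigma (hdim : topologicalKrullDim X = 1)
    (h0 : Module.finrank k (Coh.HH X (Coh.structureModule X) 0) = 1)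
    (hg : Curv2.genus k X = 1) (N : X.Modules) (hN : PicF.IsInvertible N)
    (hNd : Curv2.deg k X N 1 = 1)
    (F : X.Modules) (r : ℕ) (hr : 0 < r) (hF : FlatMod.IsFinLocFreeOfRank r F)
    (hFss : ∀ (G : X.Modules) (r' : ℕ) (i : G ⟶ F), Mono i → 0 < r' →
      FlatMod.IsFinLocFreeOfRank r' G →
      Curv2.deg k X G r' * (r : ℤ) ≤ Curv2.deg k X F r * (r' : ℤ))
    (L : X.Modules) (hL : PicF.IsInvertible L)
    (hdeg : Curv2.deg k X F r < (Curv2.deg k X L 1 - 1) * (r : ℤ)) :
    ∃ (M : ℕ), 0 < M ∧ ∃ (j : F ⟶ ∐ fun _ : Fin M => L), Mono j := by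
  obtain ⟨P, hP, ⟨e⟩⟩ := Groth.Agent.H5.Glue.exists_inverse N hN
  have hPd : Curv2.deg k X P 1 = - Curv2.deg k X N 1 := by
    have h1 := Groth.Agent.H5.Curve2.deg_tensor k X hdim.le hN hP
    rw [Curve.deg_iso k X e 1] at h1
    have h2 : Curv2.deg k X (unitMod X) 1 = 0 := Curve.deg_structureModule k X
    linarith
  let L' := CohB1.tensorMod L P
  have hL' : PicF.IsInvertible L' := isInvertible_tensorMod hL hP
  have hL'd : Curv2.deg k X L' 1 = Curv2.deg k X L 1 - 1 := by
    have := Groth.Agent.H5.Curve2.deg_tensor k X hdim.le hL hP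
    rw [this, hPd, hNd]
    ring
  obtain ⟨M, κ, hκ⟩ := exists_jointly_mono k X hdim h0 hg L L' hL hL' hL'd r F hF (by
    intro G r' i hi hr' hG
    have h1 := hFss G r' i hi hr' hG
    have hrz : (0 : ℤ) < r := by exact_mod_cast hr
    have hr'z : (0 : ℤ) < r' := by exact_mod_cast hr'
    have h2 : Curv2.deg k X F r * (r' : ℤ) < (Curv2.deg k X L 1 - 1) * (r : ℤ) * (r' : ℤ) :=
      mul_lt_mul_of_pos_right hdeg hr'z
    have h3 : Curv2.deg k X G r' * (r : ℤ) < ((Curv2.deg k X L 1 - 1) * (r' : ℤ)) * (r : ℤ) := by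
      nlinarith
    exact lt_of_mul_lt_mul_right h3 hrz.le)
  refine ⟨M + 1, Nat.succ_pos M, ?_⟩
  refine exists_mono_sigma_of_jointly_mono X (Fin.cons (0 : F ⟶ L) κ) ?_
  intro Z z hz
  apply hκ
  intro i
  have := hz i.succ
  rwa [Fin.cons_succ] at this

end Groth.Agent.H5.ExtG1
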