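import Mathlib
import Groth.Agent.Lib.Helper5.ExtG1.I
import Groth.Agent.Lib.Lead.QC.ProjFormulaLF
import Groth.Agent.Lib.Lead.QC.TwistExt
import Groth.Agent.Lib.Helper5.Curve4.VB1

/-!
# A bound for the slopes of subbundles of tensor products (genus one)
-/

set_option autoImplicit false
set_option linter.style.haveILetI false
universe u
open CategoryTheory CategoryTheory.Limits AlgebraicGeometry TopologicalSpace Opposite

namespace Groth.Agent.H5.ExtG1

open Groth.Agent.LD Groth.Agent.LD.QC Groth.Agent.H5.Curve4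

section abstract

universe v₁ v₂ u₁ u₂
variable {C : Type u₁} [Category.{v₁} C] [Preadditive C] [HasFiniteBiproducts C]
  {D : Type u₂} [Category.{v₂} D] [Preadditive D]

/-- an additive functor preserving the relevant monomorphism preserves jointly injective finite
families. -/
theorem jointly_mono_map (Φ : C ⥤ D) [Φ.Additive] {F L : C} {M : ℕ} (κ : Fin M → (F ⟶ L))
    (hκ : ∀ (Z : C) (z : Z ⟶ F), (∀ i, z ≫ κ i = 0) → z = 0)
    (hΦ : ∀ {A B : C} (f : A ⟶ B), Mono f → Mono (Φ.map f))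
    (Z : D) (z : Z ⟶ Φ.obj F) (hz : ∀ i, z ≫ Φ.map (κ i) = 0) : z = 0 := by
  haveI : Mono (biproduct.lift κ) := by
    apply Preadditive.mono_of_cancel_zero
    intro Z z hz
    apply hκ
    intro i
    have := congrArg (fun t => t ≫ biproduct.π (fun _ : Fin M => L) i) hz
    simpa using this
  haveI := hΦ (biproduct.lift κ) inferInstance
  rw [← cancel_mono (Φ.map (biproduct.lift κ)), zero_comp]
  have h1 : Φ.map (biproduct.lift κ) = ∑ i : Fin M,
      Φ.map (κ i) ≫ Φ.map (biproduct.ι (fun _ : Fin M => L) i) := by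
    have h2 : biproduct.lift κ = ∑ i : Fin M, κ i ≫ biproduct.ι (fun _ : Fin M => L) i := by
      apply biproduct.hom_ext
      intro j
      rw [biproduct.lift_π, Preadditive.sum_comp]
      simp only [Category.assoc, biproduct.ι_π]
      rw [Finset.sum_eq_single j]
      · simp
      · intro b _ hb
        rw [dif_neg hb, comp_zero]
      · intro h
        exact absurd (Finset.mem_univ j) h
    rw [h2, Functor.map_sum]
    simp only [Functor.map_comp]
  rw [h1, Preadditive.comp_sum]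
  apply Finset.sum_eq_zero
  intro i _
  rw [← Category.assoc, hz i, zero_comp]

end abstract

variable (k : Type u) [Field k] (X : Scheme.{u}) [X.Over (Spec (CommRingCat.of k))]
  [IsProper (X ↘ Spec (CommRingCat.of k))] [Smooth (X ↘ Spec (CommRingCat.of k))] [IsIntegral X]

/-- a bundle with a jointly injective family of maps to an invertible module `N` has degree at
most `rank · deg N`. -/
theorem deg_le_of_jointly_mono (hdim : topologicalKrullDim X = 1) (N : X.Modules)
    (hN : PicF.IsInvertible N) {ι : Type*} :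
    ∀ (t : ℕ) (G : X.Modules), FlatMod.IsFinLocFreeOfRank t G → ∀ (lam : ι → (G ⟶ N)),
      (∀ (Z : X.Modules) (z : Z ⟶ G), (∀ x, z ≫ lam x = 0) → z = 0) →
      Curv2.deg k X G t ≤ (t : ℤ) * Curv2.deg k X N 1 := by
  haveI : Nonempty X := ⟨genericPoint X⟩
  have hN1 : FlatMod.IsFinLocFreeOfRank 1 N := (isInvertible_iff N).mp hN
  intro t
  induction t using Nat.strong_induction_on with
  | _ t ih =>
    intro G hG lam hlam
    rcases Nat.eq_zero_or_pos t with ht0 | htpos
    · subst ht0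
      rw [deg_rank_zero k X hG]
      simp
    · obtain ⟨x, hx⟩ : ∃ x, lam x ≠ 0 := by
        by_contra hall
        push Not at hall
        have h1 : (𝟙 G : G ⟶ G) = 0 := hlam G (𝟙 G) (fun x => by rw [hall x, comp_zero])
        exact not_isZero_of_rank_pos X htpos hG ((IsZero.iff_id_eq_zero G).mpr h1)
      obtain ⟨a, b, hab, hKa, hIb, hdeg⟩ := kernel_image_facts k X hdim.le t 1 hG hN1 (lam x)
      have hbpos := rank_coimage_pos X hx b hIb
      have hb1 : b ≤ 1 := rank_le_of_mono X (Abelian.factorThruCoimage (lam x)) b 1 hIb hN1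
      have hb : b = 1 := by omega
      subst hb
      have h1 := ih a (by omega) (kernel (lam x)) hKa (fun y => kernel.ι (lam x) ≫ lam y) (by
        intro Z z hz
        have h2 : z ≫ kernel.ι (lam x) = 0 := hlam Z _ (fun y => by
          rw [Category.assoc]; exact hz y)
        rw [← cancel_mono (kernel.ι (lam x)), h2, zero_comp])
      have h2 := (Curve.deg_le_of_mono k X hdim.le 1 hIb hN1
        (Abelian.factorThruCoimage (lam x))).1
      rw [hdeg, ← hab]
      push_cast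
      linarith


omit [IsProper (X ↘ Spec (CommRingCat.of k))] [Smooth (X ↘ Spec (CommRingCat.of k))]
  [IsIntegral X] [X.Over (Spec (CommRingCat.of k))] in
/-- tensoring a jointly injective family with a finite locally free module. -/
theorem jointly_mono_tensor {F L : X.Modules} {M : ℕ} (κ : Fin M → (F ⟶ L))
    (hκ : ∀ (Z : X.Modules) (z : Z ⟶ F), (∀ i, z ≫ κ i = 0) → z = 0)
    (P : X.Modules) (hP : FlatMod.IsFinLocFree P) (Z : X.Modules)
    (z : Z ⟶ CohB1.tensorMod F P) (hz : ∀ i, z ≫ KoszTw.tensorMap (κ i) (𝟙 P) = 0) : z = 0 := by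
  refine jointly_mono_map (twF P) κ hκ (fun f hf => ?_) Z z (fun i => ?_)
  · haveI := hf
    have := mono_tensorMap_of_isFinLocFree f P hP
    rwa [← twF_map] at this
  · have := hz i
    rwa [← twF_map] at this

omit [Smooth (X ↘ Spec (CommRingCat.of k))] in
/-- invertible modules of every degree, given one of degree one. -/
theorem exists_invertible_of_deg_one (hdim : topologicalKrullDim X = 1) (N : X.Modules)
    (hN : PicF.IsInvertible N) (hNd : Curv2.deg k X N 1 = 1) (n : ℤ) :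
    ∃ L : X.Modules, PicF.IsInvertible L ∧ Curv2.deg k X L 1 = n := by
  rcases le_or_gt 0 n with hn | hn
  · refine ⟨CohB1.tensorPow N n.toNat, QC.isInvertible_tensorPow hN _, ?_⟩
    rw [Groth.Agent.H5.Curve2.deg_tensorPow k X hdim.le hN, hNd, mul_one]
    exact Int.toNat_of_nonneg hn
  · have hL₀ := QC.isInvertible_tensorPow hN (-n).toNat
    have hd₀ : Curv2.deg k X (CohB1.tensorPow N (-n).toNat) 1 = -n := by
      rw [Groth.Agent.H5.Curve2.deg_tensorPow k X hdim.le hN, hNd, mul_one]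
      exact Int.toNat_of_nonneg (by omega)
    obtain ⟨P, hP, ⟨e⟩⟩ := Groth.Agent.H5.Glue.exists_inverse _ hL₀
    refine ⟨P, hP, ?_⟩
    have h1 := Groth.Agent.H5.Curve2.deg_tensor k X hdim.le hL₀ hP
    rw [Curve.deg_iso k X e 1] at h1
    have h2 : Curv2.deg k X (unitMod X) 1 = 0 := Curve.deg_structureModule k X
    linarith

/-- family version of `exists_mono_sigma`. -/
theorem exists_jointly_mono_of_semistable (hdim : topologicalKrullDim X = 1)
    (h0 : Module.finrank k (Coh.HH X (Coh.structureModule X) 0) = 1)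
    (hg : Curv2.genus k X = 1) (N : X.Modules) (hN : PicF.IsInvertible N)
    (hNd : Curv2.deg k X N 1 = 1)
    (F : X.Modules) (r : ℕ) (hr : 0 < r) (hF : FlatMod.IsFinLocFreeOfRank r F)
    (hFss : ∀ (G : X.Modules) (r' : ℕ) (i : G ⟶ F), Mono i → 0 < r' →
      FlatMod.IsFinLocFreeOfRank r' G →
      Curv2.deg k X G r' * (r : ℤ) ≤ Curv2.deg k X F r * (r' : ℤ))
    (L : X.Modules) (hL : PicF.IsInvertible L)
    (hdeg : Curv2.deg k X F r < (Curv2.deg k X L 1 - 1) * (r : ℤ)) :
    ∃ (M : ℕ) (κ : Fin M → (F ⟶ L)), ∀ (Z : X.Modules) (z : Z ⟶ F),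
      (∀ i, z ≫ κ i = 0) → z = 0 := by
  obtain ⟨L', hL', hL'd⟩ := exists_invertible_of_deg_one k X hdim N hN hNd
    (Curv2.deg k X L 1 - 1)
  refine exists_jointly_mono k X hdim h0 hg L L' hL hL' hL'd r F hF ?_
  intro G r' i hi hr' hG
  have h1 := hFss G r' i hi hr' hG
  have hrz : (0 : ℤ) < r := by exact_mod_cast hr
  have hr'z : (0 : ℤ) < r' := by exact_mod_cast hr'
  have h2 : Curv2.deg k X F r * (r' : ℤ) < (Curv2.deg k X L 1 - 1) * (r : ℤ) * (r' : ℤ) :=
    mul_lt_mul_of_pos_right hdeg hr'z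
  have h3 : Curv2.deg k X G r' * (r : ℤ) < ((Curv2.deg k X L 1 - 1) * (r' : ℤ)) * (r : ℤ) := by
    nlinarith
  exact lt_of_mul_lt_mul_right h3 hrz.le

/-- **S18776** (given an invertible module of degree one). -/
theorem slope_bound_tensor (hdim : topologicalKrullDim X = 1)
    (h0 : Module.finrank k (Coh.HH X (Coh.structureModule X) 0) = 1)
    (hg : Curv2.genus k X = 1) (N : X.Modules) (hN : PicF.IsInvertible N)
    (hNd : Curv2.deg k X N 1 = 1)
    (F F' : X.Modules) (r s : ℕ) (hr : 0 < r) (hs : 0 < s)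
    (hF : FlatMod.IsFinLocFreeOfRank r F) (hF' : FlatMod.IsFinLocFreeOfRank s F')
    (hFss : ∀ (G : X.Modules) (r' : ℕ) (i : G ⟶ F), Mono i → 0 < r' →
      FlatMod.IsFinLocFreeOfRank r' G →
      Curv2.deg k X G r' * (r : ℤ) ≤ Curv2.deg k X F r * (r' : ℤ))
    (hF'ss : ∀ (G : X.Modules) (r' : ℕ) (i : G ⟶ F'), Mono i → 0 < r' →
      FlatMod.IsFinLocFreeOfRank r' G →
      Curv2.deg k X G r' * (s : ℤ) ≤ Curv2.deg k X F' s * (r' : ℤ))
    (G : X.Modules) (t : ℕ) (hG : FlatMod.IsFinLocFreeOfRank t G)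
    (i : G ⟶ CohB1.tensorMod F F') [Mono i] :
    Curv2.deg k X G t * (r : ℤ) * (s : ℤ) ≤
      (t : ℤ) * (4 * (r : ℤ) * (s : ℤ) + Curv2.deg k X F r * (s : ℤ) +
        Curv2.deg k X F' s * (r : ℤ)) := by
  have hrz : (0 : ℤ) < r := by exact_mod_cast hr
  have hsz : (0 : ℤ) < s := by exact_mod_cast hs
  have htz : (0 : ℤ) ≤ t := Int.natCast_nonneg t
  -- the degrees of the target line bundles
  have a1 := Int.ediv_mul_le (Curv2.deg k X F r) (ne_of_gt hrz)
  have a2 := Int.lt_ediv_add_one_mul_self (Curv2.deg k X F r) hrz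
  have b1 := Int.ediv_mul_le (Curv2.deg k X F' s) (ne_of_gt hsz)
  have b2 := Int.lt_ediv_add_one_mul_self (Curv2.deg k X F' s) hsz
  obtain ⟨L, hL, hLd⟩ := exists_invertible_of_deg_one k X hdim N hN hNd
    (Curv2.deg k X F r / (r : ℤ) + 2)
  obtain ⟨L', hL', hL'd⟩ := exists_invertible_of_deg_one k X hdim N hN hNd
    (Curv2.deg k X F' s / (s : ℤ) + 2)
  obtain ⟨M, κ, hκ⟩ := exists_jointly_mono_of_semistable k X hdim h0 hg N hN hNd F r hr hF hFss
    L hL (by rw [hLd]; linarith)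
  obtain ⟨M', κ', hκ'⟩ := exists_jointly_mono_of_semistable k X hdim h0 hg N hN hNd F' s hs hF'
    hF'ss L' hL' (by rw [hL'd]; linarith)
  let lam : Fin M × Fin M' → (CohB1.tensorMod F F' ⟶ CohB1.tensorMod L' L) := fun x =>
    KoszTw.tensorMap (κ x.1) (𝟙 F') ≫ (tensorCommAll L F').hom ≫ KoszTw.tensorMap (κ' x.2) (𝟙 L)
  have hlam : ∀ (Z : X.Modules) (z : Z ⟶ CohB1.tensorMod F F'),
      (∀ x, z ≫ lam x = 0) → z = 0 := by
    intro Z z hz
    refine jointly_mono_tensor X κ hκ F' (isFinLocFree_of_rank' hF') Z z (fun a => ?_)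
    have h1 : (z ≫ KoszTw.tensorMap (κ a) (𝟙 F')) ≫ (tensorCommAll L F').hom = 0 := by
      refine jointly_mono_tensor X κ' hκ' L
        (isFinLocFree_of_rank' ((isInvertible_iff L).mp hL)) Z _ (fun b => ?_)
      have h2 : z ≫ (KoszTw.tensorMap (κ a) (𝟙 F') ≫ (tensorCommAll L F').hom ≫
          KoszTw.tensorMap (κ' b) (𝟙 L)) = 0 := hz (a, b)
      rw [Category.assoc, Category.assoc]
      exact h2
    exact (cancel_mono (tensorCommAll L F').hom).mp (h1.trans zero_comp.symm)
  have hbound := deg_le_of_jointly_mono k X hdim (CohB1.tensorMod L' L)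
    (isInvertible_tensorMod hL' hL) t G hG (fun x => i ≫ lam x) (by
      intro Z z hz
      have h1 : z ≫ i = 0 := hlam Z _ (fun x => by rw [Category.assoc]; exact hz x)
      rw [← cancel_mono i, h1, zero_comp])
  rw [Groth.Agent.H5.Curve2.deg_tensor k X hdim.le hL' hL, hLd, hL'd] at hbound
  -- arithmetic
  have c1 : (Curv2.deg k X F r / (r : ℤ) + 2) * (r : ℤ) ≤ Curv2.deg k X F r + 2 * r := by
    linarith
  have c2 : (Curv2.deg k X F' s / (s : ℤ) + 2) * (s : ℤ) ≤ Curv2.deg k X F' s + 2 * s := by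
    linarith
  have c3 : Curv2.deg k X G t * (r : ℤ) * (s : ℤ) ≤
      (t : ℤ) * (Curv2.deg k X F' s / (s : ℤ) + 2 + (Curv2.deg k X F r / (r : ℤ) + 2)) *
        (r : ℤ) * (s : ℤ) := by
    have := mul_le_mul_of_nonneg_right hbound (mul_pos hrz hsz).le
    nlinarith
  have c4 : ((Curv2.deg k X F' s / (s : ℤ) + 2) * (s : ℤ)) * (r : ℤ) ≤
      (Curv2.deg k X F' s + 2 * s) * (r : ℤ) := mul_le_mul_of_nonneg_right c2 hrz.le
  have c5 : ((Curv2.deg k X F r / (r : ℤ) + 2) * (r : ℤ)) * (s : ℤ) ≤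
      (Curv2.deg k X F r + 2 * r) * (s : ℤ) := mul_le_mul_of_nonneg_right c1 hsz.le
  have c6 : (t : ℤ) * (Curv2.deg k X F' s / (s : ℤ) + 2 + (Curv2.deg k X F r / (r : ℤ) + 2)) *
        (r : ℤ) * (s : ℤ) ≤ (t : ℤ) * ((Curv2.deg k X F' s + 2 * s) * (r : ℤ) +
          (Curv2.deg k X F r + 2 * r) * (s : ℤ)) := by
    have : (Curv2.deg k X F' s / (s : ℤ) + 2 + (Curv2.deg k X F r / (r : ℤ) + 2)) *
        (r : ℤ) * (s : ℤ) ≤ (Curv2.deg k X F' s + 2 * s) * (r : ℤ) +
          (Curv2.deg k X F r + 2 * r) * (s : ℤ) := by nlinarith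
    calc (t : ℤ) * (Curv2.deg k X F' s / (s : ℤ) + 2 + (Curv2.deg k X F r / (r : ℤ) + 2)) *
          (r : ℤ) * (s : ℤ)
        = (t : ℤ) * ((Curv2.deg k X F' s / (s : ℤ) + 2 + (Curv2.deg k X F r / (r : ℤ) + 2)) *
          (r : ℤ) * (s : ℤ)) := by ring
      _ ≤ _ := mul_le_mul_of_nonneg_left this htz
  calc Curv2.deg k X G t * (r : ℤ) * (s : ℤ) ≤ _ := c3
    _ ≤ _ := c6
    _ = _ := by ring

end Groth.Agent.H5.ExtG1
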